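import Cfsg.Agent.Lib.Spor.J2Unique.Icosa.Part0

/-!
The bound 20 for the icosahedral presentation: the assembled checks.
-/

set_option autoImplicit false

namespace CfsgLib.Spor.J2Unique.Icosa

open CfsgLib.Spor.TC

theorem steps_ok : cert.SStepsOK 0 66 :=
  steps0

def rcodes : List ℕ := [
  0x100001000000000010000050000200000200002,
  0x1300008000006000030000030000100000400001,
  0x700002000014000080000170000400000800004,
  0x1b0000900000a000050000090000300001600003,
  0xb000040000180000900002b0000600000c00006,
  0x470000a00000e0000700000d0000500002a00005,
  0xf000060000490000a0000400000800001000008,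
  0x1500003000012000020000110000700004100007,
  0x190000500001a000040000290000e00004d0000e,
  0x4800007000046000060000530000b0000200000b,
  0x54000120000220000c0000210000a0000520000a,
  0x230000b000056000120000590000d0000240000d,
  0x5b0000f0000260000e0000250000c0000580000c,
  0x270000d00004e0000f00004c0000900002800009,
  0x4f0000e00005a0000d00006d0001000003400010,
  0x7b00013000036000110000350000f00006c0000f,
  0x370001000007d000130000740001200003800012,
  0x570000c0000550000b0000390001100007500011,
  0x7c0001100007a000100000810001400006000014,
  0x8200014000083000140000610001300008000013]

set_option maxRecDepth 100000 in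
theorem rows_ok : cert.SRowsOK 66 20 0 20 :=
  Cert.SRowsOK.of_check _ (codes := rcodes) (by decide +kernel)

end CfsgLib.Spor.J2Unique.Icosa
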