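import Cfsg.Agent.Lib.Spor.TC.Signed

/-!
The bound 20 for the icosahedral presentation: tables found by a computer search, checked by `decide +kernel`.
-/

set_option autoImplicit false
set_option maxRecDepth 100000

namespace CfsgLib.Spor.J2Unique.Icosa

open CfsgLib.Spor.TC

def edgeTbl : Tbl :=
  (.bin (.bin (.tip 0x9000064000150000f00001400015200013000140000120001320001100012000010000112000080001000000f000052000060000f2000050000400000e0000800000d0000e20000c0000d00000b0000c20000a0000b0000090000a2000070000900000800003200004000082000030000200000200007200007000012000060000700000500006200004000050000030000420000200003000001000022000010000000000000001000000000002) (.tip 0x1800018300018000170)) (.bin (.tip 0x180001940001700013300017000122000170001910001a0001740001300014100016000134000130001a2000120001a300012000110000120001b40001b0001100001a0001b2000190001a000018000192000170001800001600017200014000160000110000d20000d0000c00000c0001420000b0001430000b0000a00000b0001540000e0001120000e000081000100000e40000a0000630000a0000520000a0001510000f0000a400006000071) .none))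

def nodeTbl : Tbl :=
  (.bin (.tip 0x1a20001900001820001700001620001400001420001300001220001100001020000800000620000d20000c00000b20000a0000092000070000042000060000052000040000032000020000012000000000000) .none)

def rowTbl : Tbl :=
  (.bin (.tip 0x1800017000140001300012000110000e0000d0000c0000b0000a000080000700006000050000400003000020000100000) .none)

/-- The relators. -/
def rels : List (List ℕ) := [
  [0, 0],
  [2, 2, 2],
  [0, 2, 0, 2, 0, 2, 0, 2, 0, 2]]

/-- The generators of the subgroup. -/
def subs : List (List ℕ) := [[2]]

/-- The certificate. -/
noncomputable def cert : Cert :=
  ⟨4, rels, subs, edgeTbl.get 44, nodeTbl.get 24, rowTbl.get 20⟩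

end CfsgLib.Spor.J2Unique.Icosa
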