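import Cfsg.Agent.Lib.Spor.J2Unique.Icosa.Data

/-!
Checks of a part of the derivation.
-/

set_option autoImplicit false

namespace CfsgLib.Spor.J2Unique.Icosa

open CfsgLib.Spor.TC

def scodes0 : List ℕ := [
  0x10000100003,
  0x1,
  0x400002000010000100002,
  0x1,
  0x1,
  0x1,
  0x1,
  0x1,
  0x1,
  0x60000200004000080000a0000c0000e000100001200008000010000300002,
  0x140000800002000020000200002,
  0xa00002000030000100002,
  0x1,
  0xc0001a00003000040000200002,
  0x1,
  0x1,
  0x1,
  0x1,
  0x1,
  0x1,
  0x1c00018000160001e000200002200024000260002800009000040000300002,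
  0xe00002000050000100002,
  0x1,
  0x100002e00003000060000200002,
  0x1,
  0x1,
  0x1,
  0x1,
  0x1,
  0x1,
  0x300002c0001a000320003400036000380003a0003c00009000060000300002,
  0x120001e00003000070000100002,
  0x1e0004000004,
  0x1f000400002e00004,
  0x3e0004400004,
  0x2f0004400004,
  0x2e0004400004,
  0x2a0003200002000090000100002,
  0x320004c00004,
  0x330004c00004,
  0x4500022000020000b0000100002,
  0x460005100004,
  0x3c0005100004,
  0x5500024000020000c0000200002,
  0x26000020000d0000100002,
  0x2800050000030000e0000200002,
  0x1,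
  0x1,
  0x1,
  0x1,
  0x1,
  0x1,
  0x5c0005a000580005e0006000062000640006600068000090000e0000300002,
  0x6a0003600002000120000100002,
  0x690006b00004,
  0x680006b00004,
  0x6f0003800002000130000200002,
  0x3a0005e00003000140000100002,
  0x5e0007400004,
  0x5f000740007200004,
  0x660007800004,
  0x700007800004,
  0x720007800004,
  0x790006200002000180000100002,
  0x7a0007f00004,
  0x640007f00004]

set_option maxRecDepth 100000 in
theorem steps0 : cert.SStepsOK 0 66 :=
  Cert.SStepsOK.of_check _ (codes := scodes0) (by decide +kernel)

end CfsgLib.Spor.J2Unique.Icosa
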